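import Cfsg.Agent.H990.PQ.CoreOf
import Cfsg.Agent.H792.PQ.A3a
import Cfsg.Agent.H358.A3.Normal

/-!
# S4612, task A3c (helper990): cores of centralizers of `p`-subgroups
-/

set_option autoImplicit false

open Cfsg Cfsg.Agent Cfsg.Agent.H317.PQ

namespace Cfsg.Agent.H990.PQ

universe u

variable {p q : ℕ}

theorem closed_PQ (hp : p.Prime) (hq : q.Prime) (hpq : p ≠ q) :
    Closed.{u} p q (fun G _ => H358.A3.PQ p q G) where
  cent G _ _ h _ hx := H358.A3.PQ.centralizer hp hq hpq h hx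
  quot G _ _ h Z _ hZ hZp := H358.A3.PQ.quot_center hp hq hpq h Z hZ hZp
  core G _ _ h N _ hN := H358.A3.PQ.core hp hq hpq h N hN

variable {G : Type u} [Group G]

/-- **core, elements** -/
theorem Same.core_elem [Finite G] (hp : p.Prime) (hq : q.Prime) (hpq : p ≠ q) (h : Same p q G) {x : G}
    (hx : ∃ k : ℕ, orderOf x = p ^ k) (N : Subgroup ↥(Subgroup.centralizer ({x} : Set G))) [N.Normal]
    (hN : ¬ p ∣ Nat.card N) : ¬ q ∣ Nat.card N :=
  Cfsg.Agent.H990.PQ.core_elem hp hq hpq h hx N hN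

/-- **core, subgroups** -/
theorem Same.core_subgroup [Finite G] (hp : p.Prime) (hq : q.Prime) (hpq : p ≠ q) (h : Same p q G) (D : Subgroup G)
    (hD : IsPGroup p D) (N : Subgroup ↥(Subgroup.centralizer (D : Set G))) [N.Normal]
    (hN : ¬ p ∣ Nat.card N) : ¬ q ∣ Nat.card N :=
  (closed_PQ hp hq hpq).core_subgroup hp (H358.A3.PQ.of_same hq h) D hD N hN

/-- **core, Sylow** : no element of order `q` centralises a Sylow `p`-subgroup -/
theorem Same.core_sylow [Finite G] (hp : p.Prime) (hq : q.Prime) (hpq : p ≠ q) (h : Same p q G) (P : Subgroup G)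
    (hP : IsPGroup p P) (hi : ¬ p ∣ P.index) : ¬ q ∣ Nat.card (Subgroup.centralizer (P : Set G)) :=
  (closed_PQ hp hq hpq).core_sylow hp hq hpq (H358.A3.PQ.of_same hq h) P hP hi

/-- an abelian subgroup containing a Sylow `p`-subgroup is a `q'`-group -/
theorem Same.core_abelian [Finite G] (hp : p.Prime) (hq : q.Prime) (hpq : p ≠ q) (h : Same p q G) (A : Subgroup G)
    (hA : IsMulCommutative A) (hi : ¬ p ∣ A.index) : ¬ q ∣ Nat.card A :=
  (closed_PQ hp hq hpq).core_abelian hp hq hpq (H358.A3.PQ.of_same hq h) A hA hi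

/-- the same for `PQ` -/
theorem PQ.core_subgroup [Finite G] (hp : p.Prime) (hq : q.Prime) (hpq : p ≠ q) (h : H358.A3.PQ p q G)
    (D : Subgroup G) (hD : IsPGroup p D) (N : Subgroup ↥(Subgroup.centralizer (D : Set G))) [N.Normal]
    (hN : ¬ p ∣ Nat.card N) : ¬ q ∣ Nat.card N :=
  (closed_PQ hp hq hpq).core_subgroup hp h D hD N hN

theorem PQ.core_sylow [Finite G] (hp : p.Prime) (hq : q.Prime) (hpq : p ≠ q) (h : H358.A3.PQ p q G) (P : Subgroup G)
    (hP : IsPGroup p P) (hi : ¬ p ∣ P.index) : ¬ q ∣ Nat.card (Subgroup.centralizer (P : Set G)) :=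
  (closed_PQ hp hq hpq).core_sylow hp hq hpq h P hP hi

theorem PQ.core_abelian [Finite G] (hp : p.Prime) (hq : q.Prime) (hpq : p ≠ q) (h : H358.A3.PQ p q G)
    (A : Subgroup G) (hA : IsMulCommutative A) (hi : ¬ p ∣ A.index) : ¬ q ∣ Nat.card A :=
  (closed_PQ hp hq hpq).core_abelian hp hq hpq h A hA hi

end Cfsg.Agent.H990.PQ
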