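import Mathlib
import Cfsg.Prelude.Def_Solvable
import Cfsg.Agent.Lib.Cores

/-!
# S4612, A3: from elements to subgroups (helper990)

An abstract induction: a class of groups closed under centralizers of `p`-elements and quotients by central
`p`-subgroups, such that `O_{p'}` is a `q'`-group for all its members: then `O_{p'}(C(D))` is a `q'`-group for all
`p`-subgroups `D` of its members.
-/

set_option autoImplicit false

open Cfsg Cfsg.Agent Subgroup

namespace Cfsg.Agent.H990.PQ

universe u v

variable {p q : ℕ}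

/-- the `p'`-core and homomorphisms with normal image whose kernel is a `p`-group -/
theorem dvd_core_of_hom {A : Type u} {B : Type v} [Group A] [Group B] [Finite A] [Finite B] (hp : p.Prime)
    (φ : A →* B) (hn : φ.range.Normal) (hk : IsPGroup p φ.ker) (h : q ∣ Nat.card (pPrimeCore p A)) :
    q ∣ Nat.card (pPrimeCore p B) := by
  have : Fact p.Prime := ⟨hp⟩
  have h1 : ((pPrimeCore p A).map φ.rangeRestrict) ≤ pPrimeCore p φ.range := by
    refine Lib.Cores.le_pPrimeCore ((Lib.Cores.pPrimeCore_normal p).map _ φ.rangeRestrict_surjective) ?_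
    exact (Lib.Cores.pPrimeCore_coprime p).coprime_dvd_left (card_map_dvd _ _)
  have h2 : (pPrimeCore p A).map φ ≤ pPrimeCore p B := by
    have h3 := Subgroup.map_mono (f := φ.range.subtype) h1
    rw [Lib.Cores.map_subtype_pPrimeCore p hn, Subgroup.map_map] at h3
    exact h3.trans inf_le_right
  have h4 : Nat.card ((pPrimeCore p A).map φ) = Nat.card (pPrimeCore p A) := by
    have hinj : Function.Injective (φ.comp (pPrimeCore p A).subtype) := by
      rw [injective_iff_map_eq_one]
      intro a ha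
      have h5 : (a : A) ∈ φ.ker := ha
      obtain ⟨k, hk'⟩ := hk ⟨a, h5⟩
      have h6 : (a : A) ^ p ^ k = 1 := congrArg Subtype.val hk'
      have h7 : orderOf a ∣ p ^ k := orderOf_dvd_of_pow_eq_one (Subtype.ext h6)
      have h8 : (orderOf a).Coprime (p ^ k) := by
        refine Nat.Coprime.pow_right k ?_
        exact (Lib.Cores.pPrimeCore_coprime (G := A) p).coprime_dvd_left (orderOf_dvd_natCard a)
      have h9 : orderOf a = 1 := Nat.Coprime.eq_one_of_dvd h8 h7
      exact orderOf_eq_one_iff.1 h9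
    have h5 : (pPrimeCore p A).map φ = (φ.comp (pPrimeCore p A).subtype).range := by
      rw [MonoidHom.range_comp, range_subtype]
    rw [h5]
    exact (Nat.card_congr (MonoidHom.ofInjective hinj).toEquiv).symm
  exact (h4 ▸ h).trans (card_dvd_of_le h2)

/-- **the induction** -/
theorem core_subgroup_of (hp : p.Prime) (Pr : ∀ (G : Type u) [Group G], Prop)
    (h1 : ∀ (G : Type u) [Group G] [Finite G], Pr G → ∀ x : G, (∃ k : ℕ, orderOf x = p ^ k) →
      Pr ↥(Subgroup.centralizer ({x} : Set G)))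
    (h2 : ∀ (G : Type u) [Group G] [Finite G], Pr G → ∀ (Z : Subgroup G) [Z.Normal], Z ≤ Subgroup.center G →
      IsPGroup p Z → Pr (G ⧸ Z))
    (h3 : ∀ (G : Type u) [Group G] [Finite G], Pr G → ∀ (N : Subgroup G) [N.Normal], ¬ p ∣ Nat.card N →
      ¬ q ∣ Nat.card N) :
    ∀ (n : ℕ) (G : Type u) [Group G] [Finite G], Pr G → ∀ (D : Subgroup G), IsPGroup p D → Nat.card D = n →
      ¬ q ∣ Nat.card (pPrimeCore p ↥(Subgroup.centralizer (D : Set G))) := by
  have : Fact p.Prime := ⟨hp⟩
  intro n
  induction n using Nat.strong_induction_on with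
  | _ n ih =>
  intro G _ _ hG D hD hn hq
  rcases eq_or_ne D ⊥ with h0 | h0
  · -- `D = 1`
    subst h0
    have h4 : q ∣ Nat.card (pPrimeCore p G) := by
      refine dvd_core_of_hom hp (Subgroup.centralizer ((⊥ : Subgroup G) : Set G)).subtype ?_ ?_ hq
      · rw [range_subtype]
        have h5 : Subgroup.centralizer ((⊥ : Subgroup G) : Set G) = ⊤ := by
          rw [eq_top_iff]
          intro g _
          rw [Subgroup.mem_centralizer_iff]
          intro h hh
          rw [Subgroup.mem_bot.1 hh, one_mul, mul_one]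
        rw [h5]
        infer_instance
      · rw [ker_subtype]
        exact IsPGroup.of_bot
    refine h3 G hG (pPrimeCore p G) ?_ h4
    exact (Nat.Prime.coprime_iff_not_dvd hp).1 (Lib.Cores.pPrimeCore_coprime p).symm
  · -- `x ∈ Z(D)`, `x ≠ 1`
    have : Nontrivial D := (Subgroup.nontrivial_iff_ne_bot D).2 h0
    have hZ : Nontrivial (Subgroup.center D) := hD.center_nontrivial
    obtain ⟨⟨⟨x, hxD⟩, hxZ⟩, hx1⟩ := exists_ne (1 : Subgroup.center D)
    have hx1' : x ≠ 1 := fun h => hx1 (Subtype.ext (Subtype.ext h))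
    have hxc : ∀ d ∈ D, d * x = x * d := fun d hd =>
      congrArg Subtype.val (Subgroup.mem_center_iff.1 hxZ ⟨d, hd⟩)
    have hxp : ∃ k : ℕ, orderOf x = p ^ k := by
      obtain ⟨k, hk⟩ := IsPGroup.iff_orderOf.1 hD ⟨x, hxD⟩
      exact ⟨k, by rw [← hk, Subgroup.orderOf_mk]⟩
    set C : Subgroup G := Subgroup.centralizer ({x} : Set G) with hC
    have hDC : D ≤ C := fun d hd => Subgroup.mem_centralizer_singleton_iff.2 (hxc d hd)
    have hxC : x ∈ C := hDC hxD
    set x' : C := ⟨x, hxC⟩ with hx'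
    set Z : Subgroup C := Subgroup.zpowers x' with hZd
    have hZc : Z ≤ Subgroup.center C := by
      rw [hZd, Subgroup.zpowers_le, Subgroup.mem_center_iff]
      intro c
      exact Subtype.ext (Subgroup.mem_centralizer_singleton_iff.1 c.2)
    have hZn : Z.Normal := ⟨fun z hz g => by
      rw [Subgroup.mem_center_iff.1 (hZc hz) g, mul_inv_cancel_right]
      exact hz⟩
    have hZp : IsPGroup p Z := by
      obtain ⟨k, hk⟩ := hxp
      refine IsPGroup.of_card (n := k) ?_
      rw [hZd, Nat.card_zpowers, hx', Subgroup.orderOf_mk, hk]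
    set π : C →* C ⧸ Z := QuotientGroup.mk' Z with hπ
    have hπk : ∀ c : C, π c = 1 ↔ c ∈ Z := fun c => QuotientGroup.eq_one_iff c
    set D2 : Subgroup (C ⧸ Z) := (D.subgroupOf C).map π with hD2
    have hP2 : Pr (C ⧸ Z) := h2 C (h1 G hG x hxp) Z hZc hZp
    have hD2p : IsPGroup p D2 := (hD.comap_subtype (K := C)).map π
    -- the order of `D2`
    have hlt : Nat.card D2 < n := by
      by_contra hcon
      push Not at hcon
      let f : D →* D2 :=
        { toFun := fun d => ⟨π ⟨d, hDC d.2⟩, ⟨⟨d, hDC d.2⟩, Subgroup.mem_subgroupOf.2 d.2, rfl⟩⟩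
          map_one' := rfl
          map_mul' := fun _ _ => rfl }
      have hf : Function.Surjective f := by
        rintro ⟨_, c, hc, rfl⟩
        exact ⟨⟨c, Subgroup.mem_subgroupOf.1 hc⟩, rfl⟩
      have hb := hf.bijective_of_nat_card_le (by rw [hn]; exact hcon)
      apply hx1'
      have h5 : f ⟨x, hxD⟩ = f 1 := by
        apply Subtype.ext
        change π x' = π 1
        rw [map_one]
        exact (hπk x').2 (Subgroup.mem_zpowers x')
      exact congrArg Subtype.val (hb.1 h5)
    refine ih _ hlt (C ⧸ Z) hP2 D2 hD2p rfl ?_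
    -- the homomorphism
    have hle : Subgroup.centralizer (D : Set G) ≤ C := by
      intro c hc
      rw [hC, Subgroup.mem_centralizer_singleton_iff]
      exact (Subgroup.mem_centralizer_iff.1 hc x hxD).symm
    have hmem : ∀ c : G, ∀ hc : c ∈ C, c ∈ Subgroup.centralizer (D : Set G) →
        π ⟨c, hc⟩ ∈ Subgroup.centralizer (D2 : Set (C ⧸ Z)) := by
      intro c hc hcD
      rw [Subgroup.mem_centralizer_iff]
      rintro _ ⟨d, hd, rfl⟩
      rw [← map_mul, ← map_mul]
      congr 1
      exact Subtype.ext (Subgroup.mem_centralizer_iff.1 hcD d (Subgroup.mem_subgroupOf.1 hd))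
    let φ : ↥(Subgroup.centralizer (D : Set G)) →* ↥(Subgroup.centralizer (D2 : Set (C ⧸ Z))) :=
      { toFun := fun c => ⟨π ⟨c, hle c.2⟩, hmem c (hle c.2) c.2⟩
        map_one' := rfl
        map_mul' := fun _ _ => rfl }
    refine dvd_core_of_hom hp φ ?_ ?_ hq
    · -- the range is normal
      constructor
      rintro _ ⟨e, rfl⟩ ⟨g, hg⟩
      obtain ⟨c, rfl⟩ := QuotientGroup.mk'_surjective Z g
      have hce : (c : G) * e * (c : G)⁻¹ ∈ Subgroup.centralizer (D : Set G) := by
        rw [Subgroup.mem_centralizer_iff]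
        intro d hd
        have h6 : π (⟨d, hDC hd⟩ * c) = π (c * ⟨d, hDC hd⟩) := by
          rw [map_mul, map_mul]
          exact Subgroup.mem_centralizer_iff.1 hg _ ⟨⟨d, hDC hd⟩, Subgroup.mem_subgroupOf.2 hd, rfl⟩
        have h7 : (c * ⟨d, hDC hd⟩)⁻¹ * (⟨d, hDC hd⟩ * c) ∈ Z := by
          rw [← hπk, map_mul, map_inv, h6, inv_mul_cancel]
        set z := (c * ⟨d, hDC hd⟩)⁻¹ * (⟨d, hDC hd⟩ * c) with hz
        have h8 : (⟨d, hDC hd⟩ : C) * c = c * ⟨d, hDC hd⟩ * z := by rw [hz, mul_inv_cancel_left]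
        have h9 : d * (c : G) = c * d * z := congrArg Subtype.val h8
        have h10 : ∀ y : G, y ∈ C → (z : G) * y = y * z := fun y hy =>
          (congrArg Subtype.val (Subgroup.mem_center_iff.1 (hZc h7) ⟨y, hy⟩)).symm
        have h11 : (e : G) * d = d * e := (Subgroup.mem_centralizer_iff.1 e.2 d hd).symm
        have h12 : (z : G) * e = e * z := h10 e (hle e.2)
        have h13 : (z : G) * (c : G)⁻¹ = (c : G)⁻¹ * z := h10 _ (C.inv_mem c.2)
        have h14 : (c : G)⁻¹ * d = d * z * (c : G)⁻¹ := by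
          rw [inv_mul_eq_iff_eq_mul, ← mul_assoc, ← mul_assoc, ← h9, mul_inv_cancel_right]
        calc d * ((c : G) * e * (c : G)⁻¹) = d * c * e * (c : G)⁻¹ := by group
          _ = c * d * z * e * (c : G)⁻¹ := by rw [h9]
          _ = c * d * (z * e) * (c : G)⁻¹ := by group
          _ = c * (d * e) * z * (c : G)⁻¹ := by rw [h12]; group
          _ = c * (e * d) * z * (c : G)⁻¹ := by rw [h11]
          _ = c * e * (d * z * (c : G)⁻¹) := by group
          _ = c * e * ((c : G)⁻¹ * d) := by rw [h14]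
          _ = (c : G) * e * (c : G)⁻¹ * d := by group
      refine ⟨⟨_, hce⟩, ?_⟩
      apply Subtype.ext
      change π ⟨(c : G) * e * (c : G)⁻¹, _⟩ = π c * π ⟨e, _⟩ * (π c)⁻¹
      rw [← map_inv, ← map_mul, ← map_mul]
      rfl
    · -- the kernel is a `p`-group
      intro ⟨c, hc⟩
      have h5 : (⟨c, hle c.2⟩ : C) ∈ Z := by
        rw [← hπk]
        exact congrArg Subtype.val (MonoidHom.mem_ker.1 hc)
      obtain ⟨k, hk⟩ := hZp ⟨_, h5⟩
      refine ⟨k, Subtype.ext (Subtype.ext ?_)⟩
      have h6 : (⟨c, hle c.2⟩ : C) ^ p ^ k = 1 := congrArg Subtype.val hk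
      exact congrArg (Subtype.val : C → G) h6

end Cfsg.Agent.H990.PQ
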