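import Mathlib
import Cfsg.Prelude.Def_Solvable
import Cfsg.Agent.Lib.Cores

/-!
# S4612, A3: the centralizer of a Sylow `p`-subgroup (helper990)

If `O_{p'}(C(P))` is a `q'`-group then so is `C(P)`, for a Sylow `p`-subgroup `P`.
-/

set_option autoImplicit false

open Cfsg Cfsg.Agent Subgroup

namespace Cfsg.Agent.H990.PQ

universe u

variable {p q : ℕ} {G : Type u} [Group G]

theorem centralizer_sylow_of [Finite G] (hp : p.Prime) (hq : q.Prime) (hpq : p ≠ q) (P : Subgroup G)
    (hP : IsPGroup p P) (hi : ¬ p ∣ P.index)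
    (h : ¬ q ∣ Nat.card (pPrimeCore p ↥(Subgroup.centralizer (P : Set G)))) :
    ¬ q ∣ Nat.card (Subgroup.centralizer (P : Set G)) := by
  have : Fact p.Prime := ⟨hp⟩
  intro hqC
  apply h
  set C : Subgroup G := Subgroup.centralizer (P : Set G) with hC
  obtain ⟨R⟩ : Nonempty (Sylow p C) := inferInstance
  -- `R ≤ P`
  have hRP : ((R : Subgroup C).map C.subtype) ≤ P := by
    have h1 : IsPGroup p ((R : Subgroup C).map C.subtype) := R.isPGroup'.map _
    have h2 : ((R : Subgroup C).map C.subtype) ≤ Subgroup.normalizer (P : Set G) := by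
      rintro _ ⟨c, -, rfl⟩
      rw [Subgroup.mem_normalizer_iff]
      intro x
      have h3 : ∀ y ∈ P, (c : G) * y * (c : G)⁻¹ = y := fun y hy => by
        rw [← Subgroup.mem_centralizer_iff.1 c.2 y hy, mul_inv_cancel_right]
      refine ⟨fun hx => ?_, fun hx => ?_⟩
      · change (c : G) * x * (c : G)⁻¹ ∈ P
        rw [h3 x hx]
        exact hx
      · have h4 := h3 _ hx
        change (c : G) * ((c : G) * x * (c : G)⁻¹) * (c : G)⁻¹ = (c : G) * x * (c : G)⁻¹ at h4
        have h5 : (c : G) * x * (c : G)⁻¹ = x := by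
          have := mul_right_cancel (b := (c : G)⁻¹) h4
          exact mul_left_cancel this
        rw [← h5]
        exact hx
    have h3 : IsPGroup p ((R : Subgroup C).map C.subtype ⊔ P : Subgroup G) := h1.to_sup_of_normal_right' hP h2
    have h4 : P = (R : Subgroup C).map C.subtype ⊔ P := by
      refine le_antisymm le_sup_right ?_
      have h5 := Subgroup.relIndex_mul_index (H := P) (K := (R : Subgroup C).map C.subtype ⊔ P) le_sup_right
      have h6 : P.relIndex ((R : Subgroup C).map C.subtype ⊔ P) = 1 := by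
        obtain ⟨k, hk⟩ := IsPGroup.iff_card.1 h3
        have h7 : P.relIndex ((R : Subgroup C).map C.subtype ⊔ P) ∣ p ^ k := by
          rw [← hk]
          exact Subgroup.relIndex_dvd_card _ _
        obtain ⟨j, -, hj⟩ := (Nat.dvd_prime_pow hp).1 h7
        rcases Nat.eq_zero_or_pos j with rfl | hj0
        · rw [hj, pow_zero]
        · exfalso
          apply hi
          rw [← h5, hj]
          exact (dvd_pow_self p hj0.ne').mul_right _
      exact Subgroup.relIndex_eq_one.1 h6
    rw [h4]
    exact le_sup_left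
  have hRc : Subgroup.normalizer ((R : Subgroup C) : Set C) ≤ Subgroup.centralizer ((R : Subgroup C) : Set C) := by
    intro c _
    rw [Subgroup.mem_centralizer_iff]
    intro r hr
    apply Subtype.ext
    exact (Subgroup.mem_centralizer_iff.1 c.2 (r : G) (hRP ⟨r, hr, rfl⟩))
  have h1 := MonoidHom.not_dvd_card_ker_transferSylow R hRc
  have h2 := (MonoidHom.ker_transferSylow_isComplement' R hRc).card_mul_card
  have h3 : (MonoidHom.transferSylow R hRc).ker ≤ pPrimeCore p C :=
    Lib.Cores.le_pPrimeCore inferInstance ((Nat.Prime.coprime_iff_not_dvd hp).2 h1).symm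
  have h4 : q ∣ Nat.card (MonoidHom.transferSylow R hRc).ker := by
    rw [← h2] at hqC
    refine (hq.dvd_mul.1 hqC).resolve_right fun h5 => ?_
    obtain ⟨k, hk⟩ := IsPGroup.iff_card.1 R.isPGroup'
    rw [show Nat.card (R : Subgroup C) = p ^ k from hk] at h5
    exact hpq ((Nat.prime_dvd_prime_iff_eq hq hp).1 (hq.dvd_of_dvd_pow h5)).symm
  exact h4.trans (card_dvd_of_le h3)

theorem abelian_of [Finite G] (hp : p.Prime) (A : Subgroup G)
    (hA : IsMulCommutative A) (hi : ¬ p ∣ A.index) : ∃ P : Subgroup G, IsPGroup p P ∧ ¬ p ∣ P.index ∧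
      A ≤ Subgroup.centralizer (P : Set G) := by
  have : Fact p.Prime := ⟨hp⟩
  obtain ⟨R⟩ : Nonempty (Sylow p A) := inferInstance
  refine ⟨(R : Subgroup A).map A.subtype, R.isPGroup'.map _, ?_, ?_⟩
  · have h1 : ((R : Subgroup A).map A.subtype).index = (R : Subgroup A).index * A.index := by
      rw [Subgroup.index_map_subtype]
    rw [h1, hp.dvd_mul, not_or]
    exact ⟨R.not_dvd_index, hi⟩
  · intro a ha
    rw [Subgroup.mem_centralizer_iff]
    rintro _ ⟨r, -, rfl⟩
    have h2 := hA.is_comm.comm r ⟨a, ha⟩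
    exact congrArg Subtype.val h2

end Cfsg.Agent.H990.PQ
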