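import Cfsg.Agent.H990.PQ.Elem
import Cfsg.Agent.H990.PQ.Ind
import Cfsg.Agent.H990.PQ.Syl

/-!
# S4612, A3: cores of centralizers of `p`-subgroups (helper990)

`core_subgroup_of'`, `core_sylow_of`, `core_abelian_of` : for any class `Pr` of finite groups which is closed under
centralizers of `p`-elements and quotients by central `p`-subgroups and in which normal `p'`-subgroups are `q'`-groups
(`Pr = PQ p q`).
-/

set_option autoImplicit false

open Cfsg Cfsg.Agent Subgroup

namespace Cfsg.Agent.H990.PQ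

universe u

/-- the closure properties used in the induction -/
structure Closed (p q : ℕ) (Pr : ∀ (G : Type u) [Group G], Prop) : Prop where
  cent : ∀ (G : Type u) [Group G] [Finite G], Pr G → ∀ x : G, (∃ k : ℕ, orderOf x = p ^ k) →
      Pr ↥(Subgroup.centralizer ({x} : Set G))
  quot : ∀ (G : Type u) [Group G] [Finite G], Pr G → ∀ (Z : Subgroup G) [Z.Normal], Z ≤ Subgroup.center G →
      IsPGroup p Z → Pr (G ⧸ Z)
  core : ∀ (G : Type u) [Group G] [Finite G], Pr G → ∀ (N : Subgroup G) [N.Normal], ¬ p ∣ Nat.card N →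
      ¬ q ∣ Nat.card N

variable {p q : ℕ} {Pr : ∀ (G : Type u) [Group G], Prop} {G : Type u} [Group G]

theorem Closed.core_subgroup [Finite G] (hc : Closed p q Pr) (hp : p.Prime) (h : Pr G) (D : Subgroup G)
    (hD : IsPGroup p D) (N : Subgroup ↥(Subgroup.centralizer (D : Set G))) [hn : N.Normal]
    (hN : ¬ p ∣ Nat.card N) : ¬ q ∣ Nat.card N := by
  intro hq
  refine core_subgroup_of hp Pr hc.cent hc.quot hc.core _ G h D hD rfl (hq.trans (card_dvd_of_le ?_))
  exact Lib.Cores.le_pPrimeCore hn ((Nat.Prime.coprime_iff_not_dvd hp).2 hN).symm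

theorem Closed.core_sylow [Finite G] (hc : Closed p q Pr) (hp : p.Prime) (hq : q.Prime) (hpq : p ≠ q) (h : Pr G)
    (P : Subgroup G) (hP : IsPGroup p P) (hi : ¬ p ∣ P.index) :
    ¬ q ∣ Nat.card (Subgroup.centralizer (P : Set G)) :=
  centralizer_sylow_of hp hq hpq P hP hi (core_subgroup_of hp Pr hc.cent hc.quot hc.core _ G h P hP rfl)

theorem Closed.core_abelian [Finite G] (hc : Closed p q Pr) (hp : p.Prime) (hq : q.Prime) (hpq : p ≠ q) (h : Pr G)
    (A : Subgroup G) (hA : IsMulCommutative A) (hi : ¬ p ∣ A.index) : ¬ q ∣ Nat.card A := by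
  obtain ⟨P, h1, h2, h3⟩ := abelian_of hp A hA hi
  exact fun h4 => hc.core_sylow hp hq hpq h P h1 h2 (h4.trans (card_dvd_of_le h3))

end Cfsg.Agent.H990.PQ
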