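import Cfsg.Agent.H317.PQ.Defs
import Cfsg.Agent.Blocks.PrincipalInflate
import Cfsg.Agent.Blocks.Orthogonality
import Cfsg.Agent.Blocks.Osima
import Cfsg.Agent.Blocks.ExistsModular

/-!
# S4612, A3: the core of the centralizer of a `p`-element (helper990)
-/

set_option autoImplicit false

open Cfsg Cfsg.Agent
open scoped ComplexConjugate

namespace Cfsg.Agent.H990.PQ

open Cfsg.Agent.Blocks Cfsg.Agent.Blocks.Basic Cfsg.Agent.Blocks.Local Cfsg.Agent.H317.PQ

universe u v

variable {p q : ℕ} {G : Type u} [Group G]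

/-- Characters of the principal block: `χ (x y) = χ x` for `y ∈ O_{p'}(C(x))`. -/
theorem apply_mul_core [Finite G] [Fact p.Prime] {M : Ideal AlgInt} (hM : IsPModular p M) {x : G}
    (hx : ∃ k : ℕ, orderOf x = p ^ k) (N : Subgroup ↥(Subgroup.centralizer ({x} : Set G))) [N.Normal]
    (hN : ¬ p ∣ Nat.card N) {y : ↥(Subgroup.centralizer ({x} : Set G))} (hy : y ∈ N) {χ : IrrCharacter G}
    (hχ : χ ∈ principalBlock M G) : (χ : G → ℂ) (x * y) = (χ : G → ℂ) x := by
  classical
  have := Fintype.ofFinite G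
  have : Finite (IrrCharacter ↥(Subgroup.centralizer ({x} : Set G))) := Characters.Core.finite_irr
  have := Fintype.ofFinite (IrrCharacter ↥(Subgroup.centralizer ({x} : Set G)))
  have := Fintype.ofFinite ↥(Subgroup.centralizer ({x} : Set G))
  have hy' : ¬ p ∣ orderOf y := fun h => hN (h.trans (Subgroup.orderOf_dvd_natCard N hy))
  have h1' : ¬ p ∣ orderOf (1 : ↥(Subgroup.centralizer ({x} : Set G))) := by
    rw [orderOf_one]
    exact fun h => (Fact.out : p.Prime).one_lt.ne' (Nat.dvd_one.1 h)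
  have h1 := PrincipalInflate.section_eq hM x hx rfl hχ y hy'
  have h2 := PrincipalInflate.section_eq hM x hx rfl hχ 1 h1'
  rw [Subgroup.coe_one, mul_one] at h2
  rw [h1, h2]
  refine Finset.sum_congr rfl fun ξ hξ => ?_
  rw [PrincipalKernel.principalBlock_apply_eq hM hN (Finset.mem_filter.1 hξ).2 hy]

/-- **core, elements** -/
theorem core_elem [Finite G] (hp : p.Prime) (hq : q.Prime) (hpq : p ≠ q) (h : Same p q G) {x : G}
    (hx : ∃ k : ℕ, orderOf x = p ^ k) (N : Subgroup ↥(Subgroup.centralizer ({x} : Set G))) [N.Normal]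
    (hN : ¬ p ∣ Nat.card N) : ¬ q ∣ Nat.card N := by
  classical
  have : Fact p.Prime := ⟨hp⟩
  have : Fact q.Prime := ⟨hq⟩
  intro hqN
  obtain ⟨M, hM⟩ := ExistsModular.exists_isPModular hp
  obtain ⟨M', hM'⟩ := ExistsModular.exists_isPModular hq
  have hMp' := isPrime_of_isPModular hM'
  obtain ⟨y', hy'⟩ := exists_prime_orderOf_dvd_card' q hqN
  set y : ↥(Subgroup.centralizer ({x} : Set G)) := (y' : ↥(Subgroup.centralizer ({x} : Set G))) with hy0
  have hyN : y ∈ N := y'.2
  have hyq : orderOf (y : G) = q := by rw [Subgroup.orderOf_coe, hy0, Subgroup.orderOf_coe, hy']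
  obtain ⟨k, hk⟩ := hx
  have hcomm : Commute x (y : G) := (Subgroup.mem_centralizer_singleton_iff.1 y.2).symm
  have hxq : ¬ q ∣ orderOf x := by
    rw [hk]
    exact fun h2 => hpq ((Nat.prime_dvd_prime_iff_eq hq hp).1 (hq.dvd_of_dvd_pow h2)).symm
  have hxyq : q ∣ orderOf (x * (y : G)) := by
    have hcop : (orderOf x).Coprime (orderOf (y : G)) := by
      rw [hyq]
      exact ((Nat.Prime.coprime_iff_not_dvd hq).2 hxq).symm
    rw [hcomm.orderOf_mul_eq_mul_orderOf_of_coprime hcop, hyq]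
    exact dvd_mul_left _ _
  have h1 := Orthogonality.weak_block_orthogonality hM' (principalBlock M' G)
    (Osima.memLocalRing_blockCoeff hM' PrincipalSection.isPBlock_principalBlock) hxq hxyq
  have h2 : ∑ᶠ χ ∈ principalBlock M' G, (χ : G → ℂ) x * conj ((χ : G → ℂ) x) = 0 := by
    rw [← h1]
    refine finsum_mem_congr rfl fun χ hχ => ?_
    rw [← B0_eq hq hM', ← (show B0 p G = B0 q G from h), B0_eq hp hM] at hχ
    rw [apply_mul_core hM ⟨k, hk⟩ N hN hyN hχ]
  rw [← PrincipalSection.finsum_norm_sq] at h2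
  have h3 : (∑ᶠ χ ∈ principalBlock M' G, ‖(χ : G → ℂ) x‖ ^ 2 : ℝ) = 0 := by exact_mod_cast h2
  have : Finite (IrrCharacter G) := Characters.Core.finite_irr
  have := Fintype.ofFinite (IrrCharacter G)
  rw [finsum_mem_eq_toFinset_sum] at h3
  have h4 := (Finset.sum_eq_zero_iff_of_nonneg (fun χ _ => by positivity)).1 h3
    ⟨fun _ => 1, isIrrCharacter_one⟩ (by
      rw [Set.mem_toFinset]
      exact PrincipalSection.one_mem_principalBlock)
  simp at h4

end Cfsg.Agent.H990.PQ
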